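import Cfsg.Agent.SB.Split
import Cfsg.Agent.SB.R1.Crit
import Cfsg.Agent.DS.NT.StepA
import Cfsg.Agent.S0044

/-!
# S5765: the simple group of order 25920 (helper98)
-/

set_option autoImplicit false

namespace Cfsg.Agent.SB.Br

open Subgroup Cfsg Cfsg.Agent.H786.FC

theorem five {G : Type*} [Group G] [Finite G] [Group.IsSolvable G] (R : Subgroup G) [R.Normal] (hR : R.index ≤ 2)
    (hG : Nat.card G ∣ 51840)
    (h23 : ∀ r : ℕ, r = 2 ∨ r = 3 → ∀ Q : Subgroup G, Q.Normal → Q ≤ R → IsPGroup r Q → Q = ⊥) :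
    Nat.card G ≤ 40 ∧ Nat.card (fittingSubgroup G) ≤ 10 ∧
      ∀ c ∈ fittingSubgroup G, (orderOf c).Prime → (zpowers c).Normal := by
  have h5 : Fact (Nat.Prime 5) := ⟨by norm_num⟩
  have hFn : (fittingSubgroup G).Normal := Lib.Cores.fittingSubgroup_normal
  have hFl : Group.IsNilpotent (fittingSubgroup G) := Lib.Cores.fittingSubgroup_isNilpotent
  have hX := Lib.Cores.pCore_normal (G := G) 5
  have hcard : ∀ r : ℕ, r.Prime → ∀ Q : Subgroup G, IsPGroup r Q → r ≠ 2 → r ≠ 3 →
      Nat.card Q ∣ r ∧ (r ≠ 5 → Q = ⊥) := by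
    intro r hr Q hQ h2 h3
    have : Fact r.Prime := ⟨hr⟩
    obtain ⟨k, hk⟩ := IsPGroup.iff_card.1 hQ
    have h1 : r ^ k ∣ 2 ^ 7 * 3 ^ 4 * 5 := by
      rw [← hk]
      exact (card_subgroup_dvd_card Q).trans hG
    have h4 : r ^ k ∣ 5 := (Nat.Coprime.mul_right
      (Nat.Coprime.pow _ _ ((Nat.coprime_primes hr Nat.prime_two).2 h2))
      (Nat.Coprime.pow _ _ ((Nat.coprime_primes hr Nat.prime_three).2 h3))).dvd_of_dvd_mul_left h1
    by_cases h6 : r = 5
    · exact ⟨by rw [hk]; exact h4.trans (by rw [h6]), fun h => absurd h6 h⟩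
    · have h7 : r ^ k = 1 := Nat.Coprime.eq_one_of_dvd
        (Nat.Coprime.pow_left _ ((Nat.coprime_primes hr h5.out).2 h6)) h4
      rw [hk, h7]
      exact ⟨one_dvd _, fun _ => card_eq_one.1 (hk.trans h7)⟩
  have hinf : ∀ r : ℕ, r.Prime → r ≠ 5 → ∀ Q : Subgroup G, Q.Normal → IsPGroup r Q → Q ⊓ R = ⊥ := by
    intro r hr hr5 Q hQn hQ
    by_cases h : r = 2 ∨ r = 3
    · exact h23 r h _ inferInstance inf_le_right hQ.to_inf_left
    · push Not at h
      rw [(hcard r hr Q hQ h.1 h.2).2 hr5, bot_inf_eq]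
  have hle : ∀ Q : Subgroup G, Nat.card Q ≤ Nat.card ↥(Q ⊓ R) * 2 := fun Q =>
    (R1.card_le_inf_mul_index inferInstance).trans (Nat.mul_le_mul_left _ hR)
  have htwo : ∀ r : ℕ, r.Prime → r ≠ 5 → ∀ Q : Subgroup G, Q.Normal → IsPGroup r Q → Nat.card Q ≤ 2 := by
    intro r hr hr5 Q hQn hQ
    have h1 := hle Q
    rwa [hinf r hr hr5 Q hQn hQ, card_bot, one_mul] at h1
  have hX5 := (hcard 5 h5.out _ (Lib.Cores.pCore_isPGroup 5) (by norm_num) (by norm_num)).1
  have hF : Nat.card (fittingSubgroup G) ≤ 10 := by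
    have h1 : fittingSubgroup G ⊓ R ≤ pCore 5 G := by
      refine DS.NT.le_of_sylow (Group.nilpotent_of_mulEquiv (subgroupOfEquivOfLe (inf_le_left (b := R)))) fun r hr Q hQn hQ hQp => ?_
      by_cases hr5 : r = 5
      · subst hr5
        exact Lib.Cores.le_pCore hQn hQp
      · rw [← inf_of_le_left (hQ.trans inf_le_right), hinf r hr hr5 Q hQn hQp]
        exact bot_le
    have h2 := (card_le_of_le h1).trans (Nat.le_of_dvd (by norm_num) hX5)
    have h3 := hle (fittingSubgroup G)
    omega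
  refine ⟨?_, hF, fun c hc hp => ?_⟩
  · let f : G →* MulAut (pCore 5 G) := MulAut.conjNormal
    have h1 : f.ker ≤ fittingSubgroup G := by
      refine le_trans (fun s hs => ?_) S0044.result
      have h2 : fittingSubgroup G ≤ centralizer {s} := by
        refine DS.NT.le_of_sylow hFl fun r hr Q hQn _ hQp x hx => ?_
        rw [mem_centralizer_singleton_iff]
        by_cases hr5 : r = 5
        · subst hr5
          have h3 : s * x * s⁻¹ = x :=
            congrArg Subtype.val (DFunLike.congr_fun (MonoidHom.mem_ker.1 hs)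
              (⟨x, Lib.Cores.le_pCore hQn hQp hx⟩ : pCore 5 G))
          exact (mul_inv_eq_iff_eq_mul.1 h3).symm
        · by_contra h3
          have h4 := htwo r hr hr5 Q hQn hQp
          have h6 : x ≠ 1 := by rintro rfl; exact h3 (by rw [one_mul, mul_one])
          have h7 : s * x * s⁻¹ ≠ 1 := fun h => h6 (by simpa using h)
          have h8 : s * x * s⁻¹ ≠ x := fun h => h3 (mul_inv_eq_iff_eq_mul.1 h).symm
          have h9 : 2 < Nat.card Q := by
            have := Fintype.ofFinite Q
            rw [Nat.card_eq_fintype_card, Fintype.two_lt_card_iff]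
            exact ⟨1, ⟨x, hx⟩, ⟨_, hQn.conj_mem x hx s⟩, fun h => h6 (congrArg Subtype.val h).symm,
              fun h => h7 (congrArg Subtype.val h).symm, fun h => h8 (congrArg Subtype.val h).symm⟩
          omega
      exact mem_centralizer_iff.2 fun x hx => mem_centralizer_singleton_iff.1 (h2 hx)
    have h2 : Nat.card (MulAut (pCore 5 G)) ≤ 4 := by
      have : IsCyclic (pCore 5 G) := isCyclic_of_card_dvd_prime hX5
      rw [IsCyclic.card_mulAut]
      rcases (Nat.dvd_prime h5.out).1 hX5 with h | h <;> rw [h] <;> decide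
    have h3 := f.ker.card_mul_index
    have h4 : f.ker.index ≤ 4 := by
      rw [index_ker]
      exact (card_le_card_group _).trans h2
    have h6 := (card_le_of_le h1).trans hF
    calc Nat.card G = _ := h3.symm
      _ ≤ 10 * 4 := Nat.mul_le_mul h6 h4
  · have : Fact (orderOf c).Prime := ⟨hp⟩
    have h1 : zpowers c ≤ pCore (orderOf c) G := by
      have h2 : IsPGroup (orderOf c) ((zpowers c).subgroupOf (fittingSubgroup G)) :=
        (IsPGroup.of_card (n := 1) (by rw [Nat.card_zpowers, pow_one])).comap_of_injective _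
          (fittingSubgroup G).subtype_injective
      obtain ⟨P, hP⟩ := h2.exists_le_sylow
      have hPn : (P : Subgroup (fittingSubgroup G)).Normal := inferInstance
      have hPc := P.characteristic_of_normal hPn
      refine le_trans ?_ (Lib.Cores.le_pCore (N := (P : Subgroup (fittingSubgroup G)).map (fittingSubgroup G).subtype)
        inferInstance (P.isPGroup'.map _))
      rw [zpowers_le]
      exact ⟨⟨c, hc⟩, hP (mem_subgroupOf.2 (mem_zpowers c)), rfl⟩
    have h2 : Nat.card (pCore (orderOf c) G) ≤ orderOf c := by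
      by_cases h : orderOf c = 5
      · rw [h]
        exact Nat.le_of_dvd (by norm_num) hX5
      · exact (htwo _ hp h _ (Lib.Cores.pCore_normal _) (Lib.Cores.pCore_isPGroup _)).trans hp.two_le
    rw [eq_of_le_of_card_ge h1 (by rwa [Nat.card_zpowers])]
    exact Lib.Cores.pCore_normal _

theorem good_five {A : Type*} [Group A] [Finite A] {T S : Subgroup A} (hT : AS T) (hc : Nat.card T = 25920)
    (hi : T.index = 2) (hS : Group.IsSolvable S) (hm : MaxInv T S) (h2 : NPar 2 T S) (h3 : NPar 3 T S) : Good T S := by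
  have hn := hT.normal
  have hA : Nat.card A = 51840 := by rw [← T.card_mul_index, hc, hi]
  obtain ⟨h4, h5, h6⟩ := five (T.subgroupOf S)
    ((Nat.le_of_dvd (by omega) (relIndex_dvd_index_of_normal T S)).trans hi.le)
    (hA ▸ card_subgroup_dvd_card S) (fun r hr Q hQn hQ hQp => by
      have h7 : NPar r T S := by rcases hr with rfl | rfl; exacts [h2, h3]
      refine (Subgroup.map_eq_bot_iff_of_injective _ S.subtype_injective).1 (h7 _ ?_ (hQp.map _) ?_)
      · rintro _ ⟨x, hx, rfl⟩
        exact ⟨x.2, hQ hx⟩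
      · rintro s hs _ ⟨x, hx, rfl⟩
        exact ⟨_, hQn.conj_mem x hx ⟨s, hs⟩, rfl⟩)
  have h7 : Nat.card ↥(S ⊓ T) ≤ 40 := (card_le_of_le inf_le_left).trans h4
  refine Or.inl (R1.fitReg_of_bound hn 648 ?_ ?_)
  · rintro _ ⟨c, hc', rfl⟩ hp
    have hp' : (orderOf c).Prime := by rwa [← orderOf_injective S.subtype S.subtype_injective]
    have h8 := h6 c hc' hp'
    have h9 : T ⊓ centralizer {(c : A)} ≤ S := by
      intro t ht
      refine hm.mem_of_centralizes hT (X := (zpowers c).map S.subtype) ?_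
        (fun h => hT.not_le hS (h.trans (map_subtype_le _))) ?_ ht.1 ?_
      · rw [Ne, Subgroup.map_eq_bot_iff_of_injective _ S.subtype_injective, zpowers_eq_bot]
        rintro rfl
        rw [orderOf_one] at hp'
        exact Nat.not_prime_one hp'
      · rintro s hs _ ⟨x, hx, rfl⟩
        exact ⟨_, h8.conj_mem x hx ⟨s, hs⟩, rfl⟩
      · rintro _ ⟨_, ⟨k, rfl⟩, rfl⟩
        exact ((show Commute t (c : A) from mem_centralizer_singleton_iff.1 ht.2).zpow_right k).eq
    have h10 := cls_mul_card T (c : A)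
    have h11 := (card_le_of_le h9).trans h4
    change 648 ≤ cls T (c : A)
    by_contra h12
    have h13 := Nat.mul_le_mul h11 (show cls T (c : A) ≤ 647 by omega)
    omega
  · rw [card_fit]
    exact (Nat.mul_le_mul h5 h7).trans (by norm_num)

/-- the group of order `25920` -/
theorem row_five (hP : BoxPar) (K : Type) [Group K] [Finite K] [IsSimpleGroup K] (hK : ¬ IsMulCommutative K)
    (h1 : ¬ RankOne K) (h2 : IsLieTypeChar 2 K) (h3 : IsLieTypeChar 3 K) (hc : Nat.card K = 25920)
    (ha : Nat.card (MulAut K) = 2 * 25920) : Row K := by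
  intro S hS hm
  by_cases h4 : NPar 2 (InnG K) S
  swap
  · exact hP 2 K hK h1 h2 S hS hm h4
  by_cases h5 : NPar 3 (InnG K) S
  swap
  · exact hP 3 K hK h1 h3 S hS hm h5
  have h6 : Nat.card (InnG K) = 25920 := (R1.card_inn hK).trans hc
  refine good_five (as_inn hK) h6 ?_ hS hm h4 h5
  have h7 := (InnG K).card_mul_index
  rw [h6, ha] at h7
  omega

end Cfsg.Agent.SB.Br
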