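import Cfsg.Agent.SB.Br.Mod
import Cfsg.Agent.SB.Br.Five
import Cfsg.Agent.SB.Cl.Cent
import Cfsg.Agent.AutOrth.Final
import Cfsg.Agent.ClassicalGeometry.OrthSemiForms
import Cfsg.Agent.ClassicalGeometry.SympAutOddA
import Cfsg.Agent.ClassicalGeometry.SympAutExists
import Cfsg.Agent.SmallSimple.S1000.PSLFacts
import Cfsg.Agent.S0255
import Cfsg.Agent.S0256
import Cfsg.Agent.S0814
import Cfsg.Agent.S0822

/-!
# S5765, classical groups: the bridge (helper98)
-/

set_option autoImplicit false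

namespace Cfsg.Agent.SB.Br

open Subgroup Cfsg Cfsg.Agent.H786.FC Cfsg.Agent.SB.Cl Cfsg.Agent.DS.Cl.Fwd Module
open Cfsg.Agent.DS.Cl (FR SS Lmax Lmin)

section transport

variable {A : Type} [Ring A] [StarRing A]

/-- **Transport** from the form ring to the automorphism group. -/
theorem good_of_modE {F : FR A} {T : Type} [Group T] [IsSimpleGroup T] (hT : ¬ IsMulCommutative T)
    (hbig : 360 < Nat.card T) {Γ : Set (MulAut T)} (hmod : ModE F T Γ)
    (hcent : F.Span → IsSimpleGroup F.S → ¬ IsMulCommutative F.S → ∀ γ ∈ F.Aut, (∀ s ∈ F.S, γ * s = s * γ) → γ = 1)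
    {p : ℕ} (hp : ∀ p' : ℕ, p'.Prime → (p' : A) = 0 → p' = p) (hmain : ∀ S', Ctx F S' → Good F.S S')
    {S : Subgroup (MulAut T)} (hΓ : ∀ α ∈ S, α ∈ Γ) (hS : Group.IsSolvable S) (hm : MaxInv (InnG T) S)
    (hn : NPar p (InnG T) S) : Good (InnG T) S := by
  obtain ⟨hss, hspan, e, hΓ'⟩ := hmod
  have hsimple : IsSimpleGroup F.S := e.isSimpleGroup
  have hnc : ¬ IsMulCommutative F.S := fun h => hT ⟨⟨fun a b => by
    obtain ⟨a, rfl⟩ := e.surjective a
    obtain ⟨b, rfl⟩ := e.surjective b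
    rw [← map_mul, ← map_mul, h.1.1 a b]⟩⟩
  have hle : F.Aut ≤ normalizer (F.S : Set (RingAut A)) := fun γ hγ => by
    rw [mem_normalizer_iff]
    refine fun s => ⟨FR.conj_mem_S hγ, fun h => ?_⟩
    have h1 := FR.conj_mem_S (inv_mem hγ) h
    simpa [mul_assoc] using h1
  let θ : F.Aut →* MulAut T :=
    (MulAut.congr e).toMonoidHom.comp (F.S.normalizerMonoidHom.comp (inclusion hle))
  have hθ : ∀ (γ : F.Aut) (s t : F.S), (t : RingAut A) = γ * s * (γ : RingAut A)⁻¹ → θ γ (e s) = e t := by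
    intro γ s t h
    change e (F.S.normalizerMonoidHom (inclusion hle γ) (e.symm (e s))) = e t
    rw [e.symm_apply_apply]
    exact congrArg e (Subtype.ext h.symm)
  have hinj : Function.Injective θ := by
    rw [injective_iff_map_eq_one]
    intro γ hγ
    refine Subtype.ext (hcent hspan hsimple hnc γ γ.2 fun s hs => ?_)
    have h1 := hθ γ ⟨s, hs⟩ ⟨_, FR.conj_mem_S γ.2 hs⟩ rfl
    rw [hγ] at h1
    exact mul_inv_eq_iff_eq_mul.1 (congrArg Subtype.val (e.injective h1)).symm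
  have hsub : ∀ s : F.S, θ ⟨s, F.S_le_Aut s.2⟩ = MulAut.conj (e s) := fun s => by
    refine MulEquiv.ext fun x => ?_
    obtain ⟨t, rfl⟩ := e.surjective x
    rw [hθ ⟨s, F.S_le_Aut s.2⟩ t (s * t * s⁻¹) rfl, map_mul, map_mul, map_inv]
    rfl
  have h1 : (F.S.subgroupOf F.Aut).map θ = InnG T := by
    ext α
    constructor
    · rintro ⟨γ, hγ, rfl⟩
      exact ⟨e ⟨γ, hγ⟩, (hsub ⟨γ, hγ⟩).symm⟩
    · rintro ⟨x, rfl⟩
      obtain ⟨s, rfl⟩ := e.surjective x
      exact ⟨_, s.2, hsub s⟩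
  have h2 : (S.comap θ).map θ = S := by
    refine map_comap_eq_self fun α hα => ?_
    obtain ⟨γ, hγ, h⟩ := hΓ' α (hΓ α hα)
    refine ⟨⟨γ, hγ⟩, MulEquiv.ext fun x => ?_⟩
    obtain ⟨s, rfl⟩ := e.surjective x
    rw [hθ ⟨γ, hγ⟩ s ⟨_, FR.conj_mem_S hγ s.2⟩ rfl]
    exact h s _ rfl
  have h3 : (F.S.subgroupOf F.Aut).map F.Aut.subtype = F.S := map_subgroupOf_eq_of_le F.S_le_Aut
  have h4 : Group.IsSolvable (S.comap θ) :=
    Group.isSolvable_of_isSolvable_injective (f := θ.subgroupComap S) fun a b h =>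
      Subtype.ext (hinj (congrArg Subtype.val h))
  rw [← h1, ← h2] at hm hn ⊢
  refine Good.map θ hinj (Good.of_map F.Aut.subtype F.Aut.subtype_injective ?_)
  have h5 := (hm.of_map θ hinj).map F.Aut.subtype F.Aut.subtype_injective
  have h6 := (hn.of_map θ hinj).map F.Aut.subtype F.Aut.subtype_injective
  rw [h3] at h5 h6 ⊢
  exact hmain _ ⟨hss, hspan, hsimple, hnc, by rwa [Nat.card_congr e.toEquiv], hcent hspan hsimple hnc,
    map_subtype_le _, Group.isSolvable_of_surjective (F.Aut.subtype.subgroupMap_surjective _), h5,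
    fun p' hp' h0 => by rwa [hp p' hp' h0]⟩

theorem char_eq {K : Type} [Field K] [Finite K] (p : ℕ) [CharP K p] {p' : ℕ} (hp' : p'.Prime) (h : (p' : K) = 0) :
    p' = p := by
  have hp : p.Prime := CharP.char_is_prime K p
  exact ((Nat.prime_dvd_prime_iff_eq hp hp').1 ((CharP.cast_eq_zero_iff K p p').1 h)).symm

theorem char_EB {K V : Type} [Field K] [Finite K] [AddCommGroup V] [Module K V] [Nontrivial V] (h : HF K V) (p : ℕ)
    [CharP K p] (p' : ℕ) (hp' : p'.Prime) (h0 : (p' : h.EB) = 0) : p' = p := by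
  refine char_eq (K := K) p hp' ?_
  obtain ⟨v, hv⟩ := exists_ne (0 : V)
  have h1 : (p' : Module.End K V) v = 0 := LinearMap.congr_fun (show (p' : Module.End K V) = 0 from h0) v
  rw [Module.End.natCast_apply, ← Nat.cast_smul_eq_nsmul K] at h1
  exact (smul_eq_zero.1 h1).resolve_right hv

end transport

section families

variable {T : Type} [Group T]

theorem rowN_L (hL : MainL) (p : ℕ) (F : Type) [Field F] [Fintype F] [CharP F p] {n : ℕ} (hn : 3 ≤ n)
    (h4 : n ≤ 4 → 3 ≤ Nat.card F) [IsSimpleGroup (Matrix.ProjectiveSpecialLinearGroup (Fin n) F)]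
    (hT : ¬ IsMulCommutative (Matrix.ProjectiveSpecialLinearGroup (Fin n) F))
    (hbig : 360 < Nat.card (Matrix.ProjectiveSpecialLinearGroup (Fin n) F)) :
    RowN p (Matrix.ProjectiveSpecialLinearGroup (Fin n) F) := by
  intro S hS hm hnp
  obtain ⟨R, hR⟩ := modL F n (by omega) (by omega)
  refine good_of_modE hT hbig hR (cent_LR hn R) (fun p' hp' h0 => char_eq (K := F) p hp' ?_)
    (fun S' h => hL F n R S' hn h4 h) (fun _ _ => trivial) hS hm hnp
  let i : Fin n := ⟨0, by omega⟩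
  have h1 : (p' : Matrix (Fin n) (Fin n) F) = 0 := congrArg Prod.fst h0
  have h2 := congrFun (congrFun h1 i) i
  rwa [Matrix.natCast_apply, if_pos rfl] at h2

open Cfsg.Agent.LieClassical.HermBasic in
theorem rowN_U (hU : MainU) (p : ℕ) (F : Type) [Field F] [Fintype F] [CharP F p] {n q : ℕ}
    (hF : Fintype.card F = q ^ 2) (hn : 4 ≤ n) (h4 : n = 4 → q ≠ 2) [IsSimpleGroup (PSU n F q)]
    (hT : ¬ IsMulCommutative (PSU n F q)) (hbig : 360 < Nat.card (PSU n F q)) : RowN p (PSU n F q) := by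
  intro S hS hm hnp
  obtain ⟨R, hRL, hR⟩ := modU F n q hF (by omega) (by omega)
  have : Nonempty (Fin n) := ⟨⟨0, by omega⟩⟩
  have h01 : (⟨0, by omega⟩ : Fin n) ≠ ⟨1, by omega⟩ := by simp
  have h23 : (⟨2, by omega⟩ : Fin n) ≠ ⟨3, by omega⟩ := by simp
  obtain ⟨e₁, f₁, a₁, b₁, -, he₁, -, h11, -, hef₁⟩ := LieClassical.HermGen.exists_hyp_pair hF h01
  obtain ⟨e₂, f₂, a₂, b₂, -, he₂, hf₂, h22, hff, hef₂⟩ := LieClassical.HermGen.exists_hyp_pair hF h23
  have h1 : hermForm n F q e₁ (Pi.single ⟨2, by omega⟩ 1) = 0 := by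
    rw [herm_single_right hF, he₁]
    simp
  have h2 : hermForm n F q e₁ e₂ = 0 := by
    rw [he₂, herm_add_right hF, herm_smul_right, h1, herm_single_right hF, he₁]
    simp
  refine good_of_modE hT hbig hR (fun a b c => cent_HF (unH n hF) R a b c (e₁ := e₁) (e₂ := f₂) (f₂ := e₂) ?_ h11 hff
    h22 ?_ h2 (by change hermForm n F q e₂ f₂ ≠ 0; rw [hef₂]; exact one_ne_zero) (Or.inl hRL))
    (char_EB (unH n hF) p) (fun S' h => hU F _ (unH n hF) R S' ⟨rfl, exists_not_fixed hF⟩ ?_ ?_ h)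
    (fun _ _ => trivial) hS hm hnp
  · rintro rfl
    exact zero_ne_one ((herm_zero_left f₁).symm.trans hef₁)
  · change hermForm n F q e₁ f₂ = 0
    rw [hf₂, herm_add_right hF, herm_smul_right, h1, h2, mul_zero, add_zero]
  · rwa [Module.finrank_fin_fun]
  · rw [Module.finrank_fin_fun, Nat.card_eq_fintype_card, hF]
    intro h5 h6
    exact h4 h5 (Nat.pow_left_injective two_ne_zero (show q ^ 2 = 2 ^ 2 from h6))

open Cfsg.Agent.ClassicalGeometry.SympBasic in
/-- symplectic groups, semilinear automorphisms -/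
theorem good_Sp (hSp : MainSp) (p : ℕ) (F : Type) [Field F] [Fintype F] [CharP F p] {m : ℕ} (hm : 2 ≤ m)
    (h4 : m = 2 → 4 ≤ Fintype.card F) [IsSimpleGroup (PSp m F)] (hT : ¬ IsMulCommutative (PSp m F))
    (hbig : 360 < Nat.card (PSp m F)) {S : Subgroup (MulAut (PSp m F))}
    (hΓ : S ≤ (ClassicalGeometry.SympAutSemi.Psi m F).range) (hS : Group.IsSolvable S) (hmx : MaxInv (InnG _) S)
    (hnp : NPar p (InnG _) S) : Good (InnG _) S := by
  obtain ⟨R, hRL, hR⟩ := modSp F m hm (fun h => by have := h4 h; omega)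
  have : Nonempty (Fin m ⊕ Fin m) := ⟨Sum.inl ⟨0, by omega⟩⟩
  have h1 : finrank F (Fin m ⊕ Fin m → F) = m + m := by
    rw [Module.finrank_fintype_fun_eq_card, Fintype.card_sum, Fintype.card_fin]
  refine good_of_modE hT hbig hR (fun a b c => cent_HF (spH m F) R a b c (e₁ := Pi.single (Sum.inl ⟨0, by omega⟩) 1)
    (e₂ := Pi.single (Sum.inl ⟨1, by omega⟩) 1) (f₂ := Pi.single (Sum.inr ⟨1, by omega⟩) 1) (by simp)
    (sympForm_self _) (sympForm_self _) (sympForm_self _) ?_ ?_ ?_ (Or.inl hRL))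
    (char_EB (spH m F) p) (fun S' h => hSp F _ (spH m F) R S' ⟨fun _ => rfl, sympForm_self, hRL⟩ (by omega) ?_ h)
    hΓ hS hmx hnp
  · exact (sympForm_single_inl_right _ _).trans (by simp)
  · exact (sympForm_single_inr_right _ _).trans (by simp)
  · change sympForm m F _ _ ≠ 0
    rw [sympForm_single_inl_right]
    simp
  · rw [h1, Nat.card_eq_fintype_card]
    exact fun h => h4 (by omega)

open Cfsg.Agent.LieClassical.OrthCore Cfsg.Agent.ClassicalGeometry.OrthSemi QuadraticMap in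
/-- orthogonal groups, semilinear automorphisms -/
theorem good_O (hO : MainO) (p : ℕ) (F V : Type) [Field F] [Finite F] [CharP F p] [AddCommGroup V] [Module F V]
    [Finite V] {Q : QuadraticForm F V} (hG : LieClassical.OrthTrans.Good Q) (h7 : 7 ≤ finrank F V)
    [IsSimpleGroup (↥(E Q) ⧸ center ↥(E Q))] (hT : ¬ IsMulCommutative (↥(E Q) ⧸ center ↥(E Q)))
    (hbig : 360 < Nat.card (↥(E Q) ⧸ center ↥(E Q))) {S : Subgroup (MulAut (↥(E Q) ⧸ center ↥(E Q)))}
    (hΓ : S ≤ (Psi Q).range) (hS : Group.IsSolvable S) (hmx : MaxInv (InnG _) S) (hnp : NPar p (InnG _) S) :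
    Good (InnG _) S := by
  obtain ⟨R, hRL, hl, hR⟩ := modO F V Q hG
  obtain ⟨x, y, hxy⟩ := hG.exists_hyp
  obtain ⟨z, w, hzw, h1, h2, -, -⟩ := hG.exists_hyp2 hxy
  have : Nontrivial V := ⟨x, 0, hxy.left_ne⟩
  have h3 : ∀ v, Q v = 0 → polar Q v v = 0 := fun v hv => by rw [polar_self, hv, smul_zero]
  exact good_of_modE hT hbig hR (fun a b c => cent_HF (orH Q hG.nondeg) R a b c (e₁ := x) (e₂ := z) (f₂ := w)
    hxy.left_ne (h3 x hxy.left) (h3 z hzw.left) (h3 w hzw.right) h1 h2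
    (by change polar Q w z ≠ 0; rw [hzw.pair']; exact one_ne_zero)
    (Or.inr ⟨(hl x).trans hxy.left, (hl z).trans hzw.left, (hl w).trans hzw.right⟩))
    (char_EB (orH Q hG.nondeg) p) (fun S' h => hO F V (orH Q hG.nondeg) R Q S' ⟨fun _ => rfl, fun _ _ => rfl, hRL, hl⟩ h7 h)
    hΓ hS hmx hnp

theorem noncomm_of_equiv {K K' : Type*} [Group K] [Group K'] (e : K ≃* K') (h : ¬ IsMulCommutative K) :
    ¬ IsMulCommutative K' := fun h' => h ⟨⟨fun a b => e.injective (by rw [map_mul, map_mul, h'.1.1])⟩⟩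

open Cfsg.Agent.LieClassical.OrthForms Cfsg.Agent.ClassicalGeometry.OrthSemiForms in
theorem rowN_O (hO : MainO) (p : ℕ) {K : Type} [Group K] [Finite K] [IsSimpleGroup K] (hK : ¬ IsMulCommutative K)
    (h1 : ¬ RankOne K) {F ι : Type} [Field F] [Fintype F] [CharP F p] [Fintype ι] [DecidableEq ι]
    {Q : QuadraticForm F (ι → F)} (hG : LieClassical.OrthTrans.Good Q) (h7 : 7 ≤ Fintype.card ι)
    (hsurj : Function.Surjective (ClassicalGeometry.OrthSemi.Psi Q)) {f : (ι → F) → F} (hf : ⇑Q = f)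
    (e : K ≃* POmega F f) : RowN p K := by
  subst hf
  let e' := e.trans (pomegaEquiv hG)
  have := e'.symm.isSimpleGroup
  refine RowN.of_equiv e' fun S hS hm hn => good_O hO p F _ hG (by rwa [Module.finrank_fintype_fun_eq_card])
    (noncomm_of_equiv e' hK) ?_ (fun α _ => hsurj α) hS hm hn
  rw [← Nat.card_congr e'.toEquiv]
  exact big_of_not_rankOne K hK h1

/-- `U₄(2) = PSp₄(3)` -/
theorem row_U42 (hP : BoxPar) (K : Type) [Group K] [Finite K] [IsSimpleGroup K] (hK : ¬ IsMulCommutative K)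
    (h1 : ¬ RankOne K) {F F' : Type} [Field F] [Fintype F] [Field F'] [Fintype F'] (hF : Fintype.card F = 4)
    (hF' : Fintype.card F' = 3) (e : K ≃* PSU 4 F 2) (e' : K ≃* PSp 2 F') : Row K := by
  have h3 : Fact (Nat.Prime 3) := ⟨Nat.prime_three⟩
  have h4 := SmallSimple.PSLFacts.card_psp_two_three hF'
  have h5 := S0814.result 3 1 le_rfl hF' 2 le_rfl (fun _ => le_rfl)
  have c2 : CharP F 2 := by
    have h6 := ringChar.charP F
    have h7 : ringChar F = 2 := by
      have h8 := (CharP.cast_eq_zero_iff F (ringChar F) (2 ^ 2)).1 (by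
        rw [show 2 ^ 2 = Fintype.card F from hF.symm]; exact FiniteField.cast_card_eq_zero F)
      exact (Nat.prime_dvd_prime_iff_eq (CharP.char_is_prime F _) Nat.prime_two).1
        ((CharP.char_is_prime F _).dvd_of_dvd_pow h8)
    rwa [h7] at h6
  have c3 : CharP F' 3 := charP_of_card_eq_prime hF'
  refine row_five hP K hK h1 (Or.inr (Or.inr (Or.inl ⟨F, _, _, c2, 4, 2, hF, by norm_num, by norm_num, ⟨e⟩⟩)))
    (Or.inr (Or.inl ⟨F', _, _, c3, 2, le_rfl, fun _ => hF'.ge, ⟨e'⟩⟩)) ((Nat.card_congr e'.toEquiv).trans h4) ?_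
  rw [Nat.card_congr (MulAut.congr e').toEquiv, h5, h4]
  norm_num

end families

open Cfsg.Agent.LieClassical.OrthForms Cfsg.Agent.ClassicalGeometry.OrthSemiForms in
/-- **The bridge.** -/
theorem boxBridge : BoxBridge := by
  intro hL hU hSp hO hB hD hA hP
  have h2 : Fact (Nat.Prime 2) := ⟨Nat.prime_two⟩
  have h3 : Fact (Nat.Prime 3) := ⟨Nat.prime_three⟩
  refine ⟨?_, ?_, ?_, ?_, ?_, ?_⟩
  · rintro p K _ _ _ hK h1 ⟨F, _, _, _, n, hn, hn2, ⟨e⟩⟩
    by_cases h4 : n = 2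
    · subst h4
      exact absurd (Or.inl ⟨F, _, _, hn2 rfl, ⟨e⟩⟩) h1
    by_cases h5 : n ≤ 4 ∧ Fintype.card F = 2
    · rcases (by omega : n = 3 ∨ n = 4) with rfl | rfl
      · have h7 : Fact (Nat.Prime 7) := ⟨by norm_num⟩
        obtain ⟨e'⟩ := S0255.result (ZMod.card 7) h5.2
        exact absurd (Or.inl ⟨ZMod 7, _, _, by rw [ZMod.card]; norm_num, ⟨e.trans e'.symm⟩⟩) h1
      · obtain ⟨e'⟩ := S0256.result h5.2
        exact (hA K hK ⟨8, by norm_num, ⟨e.trans e'⟩⟩).rowN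
    have := e.symm.isSimpleGroup
    refine RowN.of_equiv e (rowN_L hL p F (by omega) (fun h => ?_) (noncomm_of_equiv e hK) ?_)
    · have h6 : 1 < Fintype.card F := Fintype.one_lt_card
      rw [Nat.card_eq_fintype_card]
      omega
    · rw [← Nat.card_congr e.toEquiv]
      exact big_of_not_rankOne K hK h1
  · rintro p K _ _ _ hK h1 ⟨F, _, _, _, n, q, hF, hn, h32, ⟨e⟩⟩
    by_cases h4 : n = 3
    · subst h4
      exact absurd (Or.inr (Or.inl ⟨F, _, _, q, hF, fun h => h32 ⟨rfl, h⟩, ⟨e⟩⟩)) h1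
    by_cases h5 : n = 4 ∧ q = 2
    · obtain ⟨rfl, rfl⟩ := h5
      obtain ⟨e'⟩ := S0822.result hF (ZMod.card 3)
      exact (row_U42 hP K hK h1 hF (ZMod.card 3) e (e.trans e')).rowN
    have := e.symm.isSimpleGroup
    refine RowN.of_equiv e (rowN_U hU p F hF (by omega) (fun h h' => h5 ⟨h, h'⟩) (noncomm_of_equiv e hK) ?_)
    rw [← Nat.card_congr e.toEquiv]
    exact big_of_not_rankOne K hK h1
  · rintro p K _ _ _ hK h1 ⟨F, _, _, _, m, hm, hm2, ⟨e⟩⟩
    by_cases h4 : m = 2 ∧ Fintype.card F = 3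
    · obtain ⟨rfl, h4⟩ := h4
      have := Fintype.ofFinite (GaloisField 2 2)
      have h5 : Fintype.card (GaloisField 2 2) = 4 := by
        rw [← Nat.card_eq_fintype_card, GaloisField.card 2 2 two_ne_zero]
        rfl
      obtain ⟨e'⟩ := S0822.result h5 h4
      exact (row_U42 hP K hK h1 h5 h4 (e.trans e'.symm) e).rowN
    have := e.symm.isSimpleGroup
    have h5 : m = 2 → 4 ≤ Fintype.card F := fun h => by have := hm2 h; omega
    refine RowN.of_equiv e fun S hS hmx hnp => ?_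
    by_cases h6 : S ≤ (ClassicalGeometry.SympAutSemi.Psi m F).range
    · refine good_Sp hSp p F hm h5 (noncomm_of_equiv e hK) ?_ h6 hS hmx hnp
      rw [← Nat.card_congr e.toEquiv]
      exact big_of_not_rankOne K hK h1
    have h7 : m = 2 ∧ (2 : F) = 0 := by
      by_contra h7
      refine h6 fun α _ => ClassicalGeometry.SympAutExists.exists_semi hm α
        (ClassicalGeometry.SympAutOddA.recog hm ?_ α)
      by_cases h : m = 2
      · exact Or.inr fun h2 => h7 ⟨h, h2⟩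
      · left
        omega
    obtain ⟨rfl, h7⟩ := h7
    obtain rfl : 2 = p := char_eq (K := F) p Nat.prime_two (by exact_mod_cast h7)
    exact hB F (h5 rfl) S hS hmx hnp h6
  · rintro p K _ _ _ hK h1 ⟨F, _, _, _, m, hm, hq, ⟨e⟩⟩
    have h4 : (2 : F) ≠ 0 := by
      intro h4
      have h5 : ringChar F = 2 := (ringChar.eq F p).trans (char_eq (K := F) p Nat.prime_two (by exact_mod_cast h4)).symm
      have h6 := FiniteField.even_card_of_char_two h5
      obtain ⟨k, hk⟩ := hq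
      omega
    refine rowN_O hO p hK h1 (good_odd (by omega) h4) ?_ (AutOrth.Final.surjective_odd hm h4) (coe_oddForm _ _) e
    rw [Fintype.card_sum, Fintype.card_sum, Fintype.card_fin, Fintype.card_unit]
    omega
  · rintro p K _ _ _ hK h1 ⟨F, _, _, _, m, hm, ⟨e⟩⟩
    by_cases h4 : m = 4
    · subst h4
      exact RowN.of_equiv e (hD p F hO)
    refine rowN_O hO p hK h1 (good_plus (by omega)) ?_ (AutOrth.Final.surjective_plus (by omega)) (coe_plusForm _ _) e
    rw [Fintype.card_sum, Fintype.card_fin]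
    omega
  · rintro p K _ _ _ hK h1 ⟨F, _, _, _, m, a, b, hm, hab, ⟨e⟩⟩
    refine rowN_O hO p hK h1 (good_minus (by omega) a b hab) ?_ (AutOrth.Final.surjective_minus (by omega) hab)
      (coe_minusForm _ _ a b) e
    rw [Fintype.card_sum, Fintype.card_sum, Fintype.card_fin, Fintype.card_fin]
    omega

end Cfsg.Agent.SB.Br
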